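import Groth.Agent.GrpSchField.ConnComp
import Groth.Agent.GrpSchField.Subgroup
import Mathlib.AlgebraicGeometry.Fiber

/-!
# Group schemes with connected fibres are quasi-compact
-/

set_option autoImplicit false
set_option linter.style.haveILetI false
universe u

open CategoryTheory CategoryTheory.Limits MonoidalCategory CartesianMonoidalCategory MonObj GrpObj AlgebraicGeometry
open scoped CategoryTheory.Obj

namespace Groth.Agent.GrpFibreQC

variable {S : Scheme.{u}} (G : Over S) [GrpObj G]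

theorem homEquiv_symm_mul {T : Scheme.{u}} (j : T ⟶ S) {W : Over T} (a b : W ⟶ (Over.pullback j).obj G) :
    ((Over.mapPullbackAdj j).homEquiv W G).symm (a * b) =
      ((Over.mapPullbackAdj j).homEquiv W G).symm a * ((Over.mapPullbackAdj j).homEquiv W G).symm b := by
  obtain ⟨a, rfl⟩ := ((Over.mapPullbackAdj j).homEquiv W G).surjective a
  obtain ⟨b, rfl⟩ := ((Over.mapPullbackAdj j).homEquiv W G).surjective b
  rw [Equiv.symm_apply_apply, Equiv.symm_apply_apply, Equiv.symm_apply_eq]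
  simp only [Adjunction.homEquiv_unit, Functor.map_mul, MonObj.comp_mul]

theorem homEquiv_symm_left {T : Scheme.{u}} (j : T ⟶ S) {W : Over T} (a : W ⟶ (Over.pullback j).obj G) :
    (((Over.mapPullbackAdj j).homEquiv W G).symm a).left = a.left ≫ pullback.fst G.hom j := by
  simp [Adjunction.homEquiv_counit]

theorem mem_mul_of_connected_fibre_at (hconn : ∀ s : S, _root_.IsConnected (G.hom.base ⁻¹' {s})) (V : G.left.Opens)
    (x : G.left) (he : η[G].left (G.hom x) ∈ V) :
    ∃ z : (G ⊗ G).left, (fst G G).left z ∈ V ∧ (snd G G).left z ∈ V ∧ μ[G].left z = x := by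
  let s := G.hom x
  let Gs := (Over.pullback (S.fromSpecResidueField s)).obj G
  letI : GrpObj Gs := Functor.grpObjObj
  let ι' : Gs.left ⟶ G.left := G.hom.fiberι s
  let Vs : Gs.left.Opens := ι' ⁻¹ᵁ V
  haveI : ConnectedSpace Gs.left := by
    haveI : ConnectedSpace ↥(G.hom.base ⁻¹' {s}) := isConnected_iff_connectedSpace.1 (hconn s)
    exact (G.hom.fiberHomeo s).symm.surjective.connectedSpace (G.hom.fiberHomeo s).symm.continuous
  haveI : IrreducibleSpace Gs.left := @GrpSchField.irreducibleSpace_of_connectedSpace (S.residueField s) _ Gs ‹GrpObj Gs› _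
  have hne : (Vs : Set Gs.left).Nonempty := by
    have hηs : G.hom (η[G].left s) = s :=
      (Scheme.Hom.comp_apply η[G].left G.hom s).symm.trans
        (congrArg (fun m : S ⟶ S => m s) (Over.w η[G]))
    obtain ⟨w, hw⟩ : η[G].left s ∈ Set.range (G.hom.fiberι s) := by
      rw [Scheme.Hom.range_fiberι]; exact hηs
    exact ⟨w, show ι' w ∈ V from hw ▸ he⟩
  have hd : Dense (Vs : Set Gs.left) := Vs.2.dense hne
  have hu := @GrpSchField.mulSet_dense (S.residueField s) _ Gs ‹GrpObj Gs› Vs Vs hd hd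
  have hx0 : G.hom.asFiber x ∈ @GrpSchField.mulSet (S.residueField s) _ Gs ‹GrpObj Gs› (Vs : Set Gs.left) Vs := by rw [hu]; trivial
  obtain ⟨z, ⟨hz1, hz2⟩, hz3⟩ := hx0
  let E := ((Over.mapPullbackAdj (S.fromSpecResidueField s)).homEquiv (Gs ⊗ Gs) G).symm
  let l := lift (E (fst Gs Gs)) (E (snd Gs Gs))
  have hl : l ≫ μ[G] = E μ[Gs] := by
    rw [← Hom.mul_def, ← homEquiv_symm_mul G (S.fromSpecResidueField s) (fst Gs Gs) (snd Gs Gs)]
    congr 1
    simp [Hom.mul_def]
  refine ⟨l.left z, ?_, ?_, ?_⟩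
  · have e : l.left ≫ (fst G G).left = (fst Gs Gs).left ≫ ι' := by
      rw [← Over.comp_left, lift_fst]
      exact homEquiv_symm_left G (S.fromSpecResidueField s) (fst Gs Gs)
    rw [← Scheme.Hom.comp_apply, e]
    exact hz1
  · have e : l.left ≫ (snd G G).left = (snd Gs Gs).left ≫ ι' := by
      rw [← Over.comp_left, lift_snd]
      exact homEquiv_symm_left G (S.fromSpecResidueField s) (snd Gs Gs)
    rw [← Scheme.Hom.comp_apply, e]
    exact hz2
  · have e : l.left ≫ μ[G].left = μ[Gs].left ≫ ι' := by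
      rw [← Over.comp_left, hl]
      exact homEquiv_symm_left G (S.fromSpecResidueField s) μ[Gs]
    rw [← Scheme.Hom.comp_apply, e, Scheme.Hom.comp_apply, hz3]
    exact Scheme.Hom.fiberι_asFiber _ _

theorem quasiCompact (hconn : ∀ s : S, _root_.IsConnected (G.hom.base ⁻¹' {s})) : QuasiCompact G.hom := by
  rw [quasiCompact_iff_forall_isAffineOpen]
  intro U hU
  have hse : ∀ s : S, G.hom (η[G].left s) = s := fun s =>
    (Scheme.Hom.comp_apply η[G].left G.hom s).symm.trans (congrArg (fun m : S ⟶ S => m s) (Over.w η[G]))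
  have hc : IsCompact (η[G].left '' (U : Set S)) := hU.isCompact.image η[G].left.continuous
  have hsub : η[G].left '' (U : Set S) ⊆ (G.hom ⁻¹ᵁ U : G.left.Opens) := by
    rintro _ ⟨s, hs, rfl⟩
    show G.hom (η[G].left s) ∈ (U : Set S)
    rw [hse s]; exact hs
  let ℬ := {W : G.left.affineOpens // W.1 ≤ G.hom ⁻¹ᵁ U}
  have hcov : η[G].left '' (U : Set S) ⊆ ⋃ W : ℬ, (W.1.1 : Set G.left) := by
    intro y hy
    obtain ⟨_, ⟨W, hW, rfl⟩, hyW, hWle⟩ :=
      G.left.isBasis_affineOpens.exists_subset_of_mem_open (hsub hy) (G.hom ⁻¹ᵁ U).2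
    exact Set.mem_iUnion.2 ⟨⟨⟨W, hW⟩, hWle⟩, hyW⟩
  obtain ⟨t, ht⟩ := hc.elim_finite_subcover (fun W : ℬ => (W.1.1 : Set G.left)) (fun W => W.1.1.2) hcov
  let V : G.left.Opens := ⟨⋃ W ∈ t, (W.1.1 : Set G.left), isOpen_biUnion fun W _ => W.1.1.2⟩
  have hVle : V ≤ G.hom ⁻¹ᵁ U := fun y hy => by
    simp only [V, TopologicalSpace.Opens.mem_mk, Set.mem_iUnion] at hy
    obtain ⟨W, -, hyW⟩ := hy
    exact W.2 hyW
  have hVc : IsCompact (V : Set G.left) := t.finite_toSet.isCompact_biUnion fun W _ => W.1.2.isCompact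
  haveI : CompactSpace (V : Scheme.{u}) := isCompact_iff_compactSpace.1 hVc
  haveI : IsAffine (U : Scheme.{u}) := hU
  let vU : (V : Scheme.{u}) ⟶ U := IsOpenImmersion.lift U.ι (V.ι ≫ G.hom) (by
    rintro _ ⟨y, rfl⟩
    simpa using hVle y.2)
  have hvU : vU ≫ U.ι = V.ι ≫ G.hom := IsOpenImmersion.lift_fac _ _ _
  haveI : QuasiCompact vU := (quasiCompact_iff_compactSpace _).2 inferInstance
  haveI : CompactSpace ↥(pullback vU vU) := QuasiCompact.compactSpace_of_compactSpace (pullback.snd vU vU)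
  let m : pullback vU vU ⟶ (G ⊗ G).left := pullback.map vU vU G.hom G.hom V.ι V.ι U.ι hvU hvU
  have hm1 : m ≫ (fst G G).left = pullback.fst vU vU ≫ V.ι := pullback.lift_fst _ _ _
  have hm2 : m ≫ (snd G G).left = pullback.snd vU vU ≫ V.ι := pullback.lift_snd _ _ _
  have hrange : Set.range (m ≫ μ[G].left) = G.hom ⁻¹' (U : Set S) := by
    apply Set.Subset.antisymm
    · rintro _ ⟨p, rfl⟩
      show G.hom ((m ≫ μ[G].left) p) ∈ U
      rw [← Scheme.Hom.comp_apply, Category.assoc, Over.w, ← Over.w (fst G G), ← Category.assoc, hm1,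
        Category.assoc, ← hvU, ← Category.assoc, Scheme.Hom.comp_apply]
      exact ((pullback.fst vU vU ≫ vU) p).2
    · intro x hx
      obtain ⟨z, h1, h2, h3⟩ : ∃ z : (G ⊗ G).left, (fst G G).left z ∈ V ∧ (snd G G).left z ∈ V ∧ μ[G].left z = x :=
        mem_mul_of_connected_fibre_at G hconn V x (ht ⟨_, hx, rfl⟩)
      have hz : z ∈ Set.range m := by
        rw [Scheme.Pullback.range_map]
        exact ⟨by simpa using h1, by simpa using h2⟩
      obtain ⟨p, rfl⟩ := hz
      exact ⟨p, (Scheme.Hom.comp_apply _ _ _).trans h3⟩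
  rw [show ((G.hom ⁻¹ᵁ U : G.left.Opens) : Set G.left) = G.hom ⁻¹' (U : Set S) from rfl, ← hrange]
  exact isCompact_range (m ≫ μ[G].left).continuous

end Groth.Agent.GrpFibreQC
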